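import Groth.Agent.Lib.HilbProj18.Charts
import Mathlib.RingTheory.Artinian.Ring
import Mathlib.RingTheory.Nakayama
import Mathlib.LinearAlgebra.Dual.Lemmas
import Mathlib.LinearAlgebra.Matrix.NonsingularInverse
import Mathlib.FieldTheory.IsAlgClosed.Basic

/-!
# Ideals of finite colength in a local algebra and the lines joining them
-/

set_option autoImplicit false
set_option linter.unusedSectionVars false

universe u

open scoped TensorProduct

namespace Groth.Agent.PunctHilb18

open Groth.Agent.HilbRep25 Groth.Agent.HilbProj18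

variable {k R : Type u} [Field k] [CommRing R] [Algebra k R] {n : ℕ} {β : Fin n → R} {x : R → Fin n → k}

/-- The coordinates as a linear map. -/
def lin (hx : IsCoord k β x) : R →ₗ[k] Fin n → k where
  toFun := x
  map_add' a b := funext fun i => hx.add a b i
  map_smul' a b := funext fun i => by simp [hx.smul]

/-- The ideal of a point with coordinates. -/
def idealOf (hx : IsCoord k β x) : Ideal R where
  carrier := {r | x r = 0}
  add_mem' {a b} ha hb := by
    show x (a + b) = 0
    funext i; rw [hx.add]; simp [show x a = 0 from ha, show x b = 0 from hb]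
  zero_mem' := (lin hx).map_zero
  smul_mem' c a ha := by
    show x (c * a) = 0
    rw [mul_comm]
    funext i
    rw [hx.mul]
    simp [show x a = 0 from ha]

theorem mem_idealOf (hx : IsCoord k β x) {r : R} : r ∈ idealOf hx ↔ x r = 0 := Iff.rfl

theorem lin_beta (hx : IsCoord k β x) (j : Fin n) : x (β j) = Pi.single j 1 := funext fun i => by
  rw [hx.unit]
  by_cases h : j = i
  · subst h; simp
  · simp [h, Ne.symm h]

theorem surjective_lin (hx : IsCoord k β x) : Function.Surjective (lin hx) := fun v =>
  ⟨∑ j, v j • β j, by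
    rw [map_sum]
    simp only [map_smul, show ∀ j, lin hx (β j) = Pi.single j 1 from lin_beta hx]
    exact (pi_eq_sum_univ' v).symm⟩

theorem sub_mem_idealOf (hx : IsCoord k β x) (r : R) : r - ∑ j, x r j • β j ∈ idealOf hx := by
  show lin hx (r - ∑ j, x r j • β j) = 0
  rw [map_sub, map_sum]
  simp only [map_smul, show ∀ j, lin hx (β j) = Pi.single j 1 from lin_beta hx]
  exact sub_eq_zero.2 (pi_eq_sum_univ' (x r))

theorem finrank_idealOf [Module.Finite k R] (hx : IsCoord k β x) :
    Module.finrank k ↥((idealOf hx).restrictScalars k) + n = Module.finrank k R := by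
  have h := LinearMap.finrank_range_add_finrank_ker (lin hx)
  rw [LinearMap.range_eq_top.2 (surjective_lin hx), finrank_top, Module.finrank_fintype_fun_eq_card,
    Fintype.card_fin, add_comm] at h
  have e : (idealOf hx).restrictScalars k = LinearMap.ker (lin hx) := Submodule.ext fun r => Iff.rfl
  rw [e]
  exact h

/-- The same ideal and two sets of coordinates. -/
theorem isUnit_pd_of_idealOf_eq {β' : Fin n → R} {x' : R → Fin n → k} (hx : IsCoord k β x) (hx' : IsCoord k β' x')
    (h : idealOf hx = idealOf hx') : IsUnit (pd x β') := by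
  refine (Matrix.isUnit_iff_isUnit_det _).1 (Matrix.mulVec_surjective_iff_isUnit.1 fun v => ?_)
  obtain ⟨r, hr⟩ := surjective_lin hx v
  refine ⟨x' r, funext fun i => ?_⟩
  have h1 : lin hx (r - ∑ j, x' r j • β' j) = 0 := by
    have := sub_mem_idealOf hx' r
    rw [← h] at this
    exact this
  rw [map_sub, sub_eq_zero, hr] at h1
  rw [h1, map_sum]
  simp [Matrix.mulVec, dotProduct, lin, hx.smul, mul_comm]

/-- Coordinates for given elements are determined by the ideal. -/
theorem eq_of_idealOf {β' : Fin n → R} {x' x'' : R → Fin n → k} (hx' : IsCoord k β' x') (hx'' : IsCoord k β' x'')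
    (h : idealOf hx' = idealOf hx'') : x'' = x' := by
  funext r
  have h1 : lin hx'' (r - ∑ j, x' r j • β' j) = 0 := by
    have := sub_mem_idealOf hx' r
    rw [h] at this
    exact this
  rw [map_sub, sub_eq_zero, map_sum] at h1
  simp only [map_smul, show ∀ j, lin hx'' (β' j) = Pi.single j 1 from lin_beta hx''] at h1
  exact h1.trans (pi_eq_sum_univ' (x' r)).symm

variable [IsAlgClosed k] [IsLocalRing R] [Module.Finite k R]

theorem exists_residue (r : R) : ∃ e : k, r - algebraMap k R e ∈ IsLocalRing.maximalIdeal R := by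
  haveI : Module.Finite k (IsLocalRing.ResidueField R) :=
    Module.Finite.of_surjective (IsScalarTower.toAlgHom k R (IsLocalRing.ResidueField R)).toLinearMap
      IsLocalRing.residue_surjective
  obtain ⟨e, he⟩ := (IsAlgClosed.algebraMap_bijective_of_isIntegral (k := k)
    (K := IsLocalRing.ResidueField R)).2 (IsLocalRing.residue R r)
  refine ⟨e, ?_⟩
  rw [← IsLocalRing.residue_eq_zero_iff, map_sub, ← he, sub_eq_zero]
  rfl

/-- A line through a point in the direction of another ideal of the same colength. -/
theorem exists_line (hx : IsCoord k β x) {J : Ideal R} (hJ : ¬ idealOf hx ≤ J)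
    (hJn : Module.finrank k ↥(J.restrictScalars k) = Module.finrank k ↥((idealOf hx).restrictScalars k)) :
    ∃ (β₁ : Fin n → R) (x₁ : R → Fin n → k) (i₀ : Fin n) (μ : R →ₗ[k] k) (j : R),
      IsUnit (pd x β₁) ∧ (∀ c i, x₁ c i * pd x β₁ = pd x (Function.update β₁ i c)) ∧
      j ∈ J ∧ j ∉ idealOf hx ∧
      (∀ h : IsCoord k β₁ x₁, idealOf hx ≤ idealOf h →
        IsCoord k β₁ fun c i => (Polynomial.C (x₁ c i) : Polynomial k) -
          if i = i₀ then Polynomial.X * Polynomial.C (μ c) else 0) ∧
      (∀ h : IsCoord k β₁ x₁, idealOf hx ≤ idealOf h →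
        ∀ r, (r ∈ idealOf hx ∧ r ∈ J ∨ r = j) → ∀ i, x₁ r i - (if i = i₀ then μ r else 0) = 0) := by
  classical
  let I := idealOf hx
  let m := IsLocalRing.maximalIdeal R
  haveI : IsArtinianRing R := IsArtinianRing.of_finite k R
  haveI : IsNoetherianRing R := isNoetherian_of_tower k inferInstance
  let N : Ideal R := (I ⊓ J) ⊔ m • I
  obtain ⟨a, haI, haN⟩ : ∃ a ∈ I, a ∉ N := by
    by_contra hc
    push Not at hc
    exact hJ ((Submodule.le_of_le_smul_of_le_jacobson_bot (IsNoetherian.noetherian I)
      (IsLocalRing.jacobson_eq_maximalIdeal ⊥ bot_ne_top).ge hc).trans inf_le_right)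
  obtain ⟨φ, hφa, hφN⟩ := Submodule.exists_dual_map_eq_bot_of_notMem (p := N.restrictScalars k) haN inferInstance
  let lam : R →ₗ[k] k := (φ a)⁻¹ • φ
  have hlamN : ∀ r ∈ N, lam r = 0 := fun r hr => by
    have : φ r ∈ (N.restrictScalars k).map φ := ⟨r, hr, rfl⟩
    rw [hφN] at this
    simp [lam, (Submodule.mem_bot k).1 this]
  have hlama : lam a = 1 := by simp [lam, hφa]
  -- the hyperplane
  let K : Ideal R :=
    { carrier := {r | r ∈ I ∧ lam r = 0}
      add_mem' := fun {p q} hp hq => ⟨add_mem hp.1 hq.1, by rw [map_add, hp.2, hq.2, add_zero]⟩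
      zero_mem' := ⟨zero_mem _, map_zero _⟩
      smul_mem' := fun c r hr => ⟨I.mul_mem_left c hr.1, by
        obtain ⟨e, he⟩ := exists_residue (k := k) c
        have h1 : (c - algebraMap k R e) • r ∈ N := Submodule.mem_sup_right (Submodule.smul_mem_smul he hr.1)
        have h2 : c • r = (c - algebraMap k R e) • r + e • r := by
          rw [sub_smul, algebraMap_smul, sub_add_cancel]
        rw [h2, map_add, hlamN _ h1, map_smul, hr.2, smul_zero, add_zero]⟩ }
  have hmI : ∀ c ∈ m, ∀ r ∈ I, c * r ∈ K := fun c hc r hr =>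
    ⟨I.mul_mem_left c hr, hlamN _ (Submodule.mem_sup_right (Submodule.smul_mem_smul hc hr))⟩
  have hIJK : ∀ r, r ∈ I → r ∈ J → r ∈ K := fun r h1 h2 => ⟨h1, hlamN r (Submodule.mem_sup_left ⟨h1, h2⟩)⟩
  have hJK : ¬ J ≤ K := fun h => by
    have hJI : J.restrictScalars k = I.restrictScalars k :=
      Submodule.eq_of_le_of_finrank_eq (fun r hr => (h hr).1) hJn
    exact hJ fun r hr => (hJI.ge hr : r ∈ J.restrictScalars k)
  -- an element of the socle
  obtain ⟨j, hjJ, hjK, hjm⟩ : ∃ j ∈ J, j ∉ K ∧ ∀ c ∈ m, c * j ∈ K := by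
    by_contra hc
    push Not at hc
    obtain ⟨e, he⟩ := IsArtinianRing.isNilpotent_jacobson_bot (R := R)
    rw [IsLocalRing.jacobson_eq_maximalIdeal ⊥ bot_ne_top] at he
    obtain ⟨j₀, hj₀, hj₀K⟩ := Set.not_subset.1 hJK
    have : ∀ i : ℕ, ∃ j ∈ J, j ∉ K ∧ j ∈ m ^ i := by
      intro i
      induction i with
      | zero => exact ⟨j₀, hj₀, hj₀K, by simp⟩
      | succ i ih =>
        obtain ⟨j, h1, h2, h3⟩ := ih
        obtain ⟨c, hc1, hc2⟩ := hc j h1 h2
        exact ⟨c * j, J.mul_mem_left c h1, hc2, by rw [pow_succ']; exact Ideal.mul_mem_mul hc1 h3⟩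
    obtain ⟨j, -, h2, h3⟩ := this e
    rw [he] at h3
    exact h2 ((Submodule.mem_bot R).1 h3 ▸ K.zero_mem)
  have hjI : j ∉ I := fun h => hjK (hIJK j h hjJ)
  let c₀ := j - a
  have hc₀ : c₀ ∉ I := fun h => hjI (by simpa [c₀] using add_mem h haI)
  obtain ⟨i₀, hi₀⟩ : ∃ i, x c₀ i ≠ 0 := Function.ne_iff.1 hc₀
  let β₁ := Function.update β i₀ c₀
  have hu : IsUnit (pd x β₁) := by rw [pd_update hx]; exact IsUnit.mk0 _ hi₀
  let x₁ : R → Fin n → k := fun c i => pd x (Function.update β₁ i c) / pd x β₁
  refine ⟨β₁, x₁, i₀, ?_⟩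
  by_cases hx₁ : IsCoord k β₁ x₁
  · let l := lin hx₁
    let π : R →ₗ[k] R := LinearMap.id - (Fintype.linearCombination k β₁).comp l
    let μ := lam.comp π
    refine ⟨μ, j, hu, fun c i => div_mul_cancel₀ _ hu.ne_zero, hjJ, hjI, fun _ hle => ?_, fun _ hle => ?_⟩
    · have hπI : ∀ r, r ∈ I → π r = r := fun r hr => by
        simp [π, l, show lin hx₁ r = 0 from hle hr]
      have hμI : ∀ r, r ∈ I → μ r = lam r := fun r hr => congrArg lam (hπI r hr)
      have hπβ : ∀ q, π (β₁ q) = 0 := fun q => by
        simp [π, l, show lin hx₁ (β₁ q) = Pi.single q 1 from lin_beta hx₁ q,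
          Fintype.linearCombination_apply_single]
      have hμβ : ∀ q, μ (β₁ q) = 0 := fun q => by simp [μ, hπβ q]
      let y : R → Fin n → Polynomial k := fun c i =>
        Polynomial.C (x₁ c i) - if i = i₀ then Polynomial.X * Polynomial.C (μ c) else 0
      have hadd : ∀ b c i, y (b + c) i = y b i + y c i := fun b c i => by
        simp only [y, hx₁.add, map_add]
        split <;> ring
      have hsmul : ∀ (e : k) c i, y (e • c) i = algebraMap k (Polynomial k) e * y c i := fun e c i => by
        simp only [y, hx₁.smul, map_smul, smul_eq_mul, map_mul, Polynomial.algebraMap_eq, Algebra.algebraMap_self,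
          RingHom.id_apply]
        split <;> ring
      have hzero : ∀ r ∈ K, ∀ i, y r i = 0 := fun r hr i => by
        simp [y, show x₁ r = 0 from hle hr.1, hμI r hr.1, hr.2]
      have hcI : ∀ r ∈ I, ∀ i, y r i = if i = i₀ then -(Polynomial.X * Polynomial.C (lam r)) else 0 :=
        fun r hr i => by
        simp only [y, show x₁ r = 0 from hle hr, hμI r hr, Pi.zero_apply, map_zero]
        split <;> simp
      have hunit : ∀ q i, y (β₁ q) i = if q = i then 1 else 0 := fun q i => by
        simp [y, hx₁.unit, hμβ, apply_ite Polynomial.C]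
      refine ⟨hadd, hsmul, hunit, ?_⟩
      -- multiplicativity, by linearity in the first variable
      intro b c i
      show y (b * c) i = ∑ q, y b q * y (β₁ q * c) i
      let P : R → Prop := fun b => y (b * c) i = ∑ q, y b q * y (β₁ q * c) i
      show P b
      have hPadd : ∀ p q, P p → P q → P (p + q) := fun p q hp hq => by
        show y ((p + q) * c) i = _
        rw [add_mul, hadd, hp, hq, ← Finset.sum_add_distrib]
        simp only [hadd, add_mul]
      have hPsmul : ∀ (e : k) p, P p → P (e • p) := fun e p hp => by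
        show y (e • p * c) i = _
        rw [smul_mul_assoc, hsmul, hp, Finset.mul_sum]
        simp only [hsmul, mul_assoc]
      have hPβ : ∀ q, P (β₁ q) := fun q => by
        show y (β₁ q * c) i = _
        simp [hunit]
      have hPK : ∀ p ∈ K, P p := fun p hp => by
        show y (p * c) i = _
        rw [hzero _ (K.mul_mem_right c hp) i]
        simp [hzero p hp]
      have hsoc : ∀ (p : R), (∀ d ∈ m, d * p ∈ K) → ∀ e : k, c - algebraMap k R e ∈ m →
          y (p * c) i = Polynomial.C e * y p i := fun p hp e he => by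
        have h2 : p * c = (c - algebraMap k R e) * p + e • p := by rw [Algebra.smul_def]; ring
        rw [h2, hadd, hzero _ (hp _ he) i, zero_add, hsmul, Polynomial.algebraMap_eq]
      have hPa : P a := by
        obtain ⟨e, he⟩ := exists_residue (k := k) c
        show y (a * c) i = _
        rw [hsoc a (fun d hd => hmI d hd a haI) e he, Finset.sum_eq_single i₀]
        · rw [show β₁ i₀ = c₀ from Function.update_self _ _ _,
            hsoc c₀ (fun d hd => by rw [mul_sub]; exact sub_mem (hjm d hd) (hmI d hd a haI)) e he,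
            hcI a haI, hcI a haI, if_pos rfl, ← show β₁ i₀ = c₀ from Function.update_self _ _ _, hunit, hlama]
          by_cases hii : i = i₀
          · subst hii; simp only [if_true, map_one, mul_one]; ring
          · simp only [hii, Ne.symm hii, if_false, mul_zero]
        · intro q _ hq
          rw [hcI a haI q, if_neg hq, zero_mul]
        · simp
      have hPI : ∀ p ∈ I, P p := fun p hp => by
        have h2 : p = (p - lam p • a) + lam p • a := by ring
        rw [h2]
        refine hPadd _ _ (hPK _ ⟨?_, ?_⟩) (hPsmul _ _ hPa)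
        · exact sub_mem hp (by rw [Algebra.smul_def]; exact I.mul_mem_left _ haI)
        · rw [map_sub, map_smul, hlama, smul_eq_mul, mul_one, sub_self]
      have hmem : b - ∑ q, x₁ b q • β₁ q ∈ I := by
        -- the two ideals agree
        have hfin : I.restrictScalars k = (idealOf hx₁).restrictScalars k :=
          Submodule.eq_of_le_of_finrank_eq hle (by
            have := finrank_idealOf hx; have := finrank_idealOf hx₁; simp only [I] at *; omega)
        exact hfin.ge (sub_mem_idealOf hx₁ b)
      rw [show b = (b - ∑ q, x₁ b q • β₁ q) + ∑ q, x₁ b q • β₁ q from (sub_add_cancel _ _).symm]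
      refine hPadd _ _ (hPI _ hmem) (Finset.sum_induction _ P hPadd ?_ fun q _ => hPsmul _ _ (hPβ q))
      simpa [P] using hPsmul 0 _ (hPK 0 K.zero_mem)
    · have hπI : ∀ r, r ∈ I → π r = r := fun r hr => by
        simp [π, l, show lin hx₁ r = 0 from hle hr]
      rintro r (⟨h1, h2⟩ | rfl) i
      · have : μ r = 0 := (congrArg lam (hπI r h1)).trans (hIJK r h1 h2).2
        simp [show x₁ r = 0 from hle h1, this]
      · have hj : r = β₁ i₀ + a := by simp [β₁, c₀]
        have h1 : lin hx₁ r = Pi.single i₀ 1 := by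
          rw [hj, map_add, show lin hx₁ (β₁ i₀) = Pi.single i₀ 1 from lin_beta hx₁ i₀,
            show lin hx₁ a = 0 from hle haI, add_zero]
        have h2 : μ r = 1 := by
          show lam (r - Fintype.linearCombination k β₁ (lin hx₁ r)) = 1
          rw [h1, Fintype.linearCombination_apply_single, one_smul, hj, add_sub_cancel_left, hlama]
        rw [show x₁ r = Pi.single i₀ 1 from h1, h2]
        by_cases hii : i = i₀
        · subst hii; simp
        · simp [hii]
  · exact ⟨0, j, hu, fun c i => div_mul_cancel₀ _ hu.ne_zero, hjJ, hjI, fun h => (hx₁ h).elim, fun h => (hx₁ h).elim⟩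

end Groth.Agent.PunctHilb18
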