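import Groth.Agent.Lib.PunctHilb18.Line
import Groth.Agent.Lib.HilbProj18.Main
import Groth.Agent.Lib.QuotProj11.Proper
import Mathlib.AlgebraicGeometry.AlgClosed.Basic

/-!
# The punctual Hilbert scheme is connected
-/

set_option autoImplicit false
set_option linter.unusedSectionVars false
set_option linter.style.haveILetI false
set_option backward.isDefEq.respectTransparency.types false

universe u

open CategoryTheory CategoryTheory.Limits AlgebraicGeometry
open scoped TensorProduct

namespace Groth.Agent.PunctHilb18

open Groth.Agent.HilbRep25 Groth.Agent.HilbProj18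

variable (k R : Type u) [Field k] [IsAlgClosed k] [CommRing R] [Algebra k R] [IsLocalRing R] [Module.Finite k R]

/-- The frame of the whole. -/
noncomputable def wholeFrame : Frame (Spec.map (CommRingCat.ofHom (algebraMap k R))) k R where
  vA := 𝟙 _
  uC := 𝟙 _
  isOpen_vA := inferInstance
  isOpen_uC := inferInstance
  w := by rw [Category.id_comp, Category.comp_id]

theorem preconnectedSpace_hilb {n : ℕ} {H : Over (Spec (CommRingCat.of k))}
    (Z : HilbD.Obj (Spec.map (CommRingCat.ofHom (algebraMap k R))) n H)
    (hZ : HilbD.IsUniversal (Spec.map (CommRingCat.ofHom (algebraMap k R))) n H Z) : PreconnectedSpace H.left := by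
  classical
  haveI : IsFinite (Spec.map (CommRingCat.ofHom (algebraMap k R))) :=
    (IsFinite.SpecMap_iff _).2 (RingHom.finite_algebraMap.2 inferInstance)
  haveI := QuotProj11.isProper_of_isProjective (isProjective_hom Z hZ)
  haveI : JacobsonSpace H.left := LocallyOfFiniteType.jacobsonSpace H.hom
  let F := wholeFrame k R
  have hF : Spec.map (CommRingCat.ofHom (algebraMap k R)) ⁻¹ᵁ F.vA.opensRange ≤ F.uC.opensRange :=
    fun y _ => ⟨y, rfl⟩
  let pt : (F.TR k ⟶ H) → H.left := fun a => a.left (IsLocalRing.closedPoint k)
  -- reaching ideals closer to a given one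
  have key : ∀ (N : ℕ) (a b : F.TR k ⟶ H) (β : Fin n → R) (x : R → Fin n → k) (hx : IsCoord k β x)
      (β' : Fin n → R) (x' : R → Fin n → k) (hx' : IsCoord k β' x'),
      HilbD.pull _ a Z.1 = (F.zOf hx).1 → HilbD.pull _ b Z.1 = (F.zOf hx').1 →
      Module.finrank k R ≤ N + Module.finrank k ↥((idealOf hx ⊓ idealOf hx').restrictScalars k) →
      pt a ∈ connectedComponent (pt b) := by
    intro N
    induction N with
    | zero =>
      intro a b β x hx β' x' hx' ha hb hN
      have h0 := finrank_idealOf hx
      have hle : Module.finrank k ↥((idealOf hx ⊓ idealOf hx').restrictScalars k) ≤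
          Module.finrank k ↥((idealOf hx).restrictScalars k) := Submodule.finrank_mono fun r hr => hr.1
      have hn : n = 0 := by omega
      subst hn
      have hab : a = b := by
        refine hom_ext Z hZ a b ?_
        rw [ha, hb]
        obtain rfl : β = β' := Subsingleton.elim _ _
        obtain rfl : x = x' := funext fun r => Subsingleton.elim _ _
        rfl
      rw [hab]
      exact mem_connectedComponent
    | succ N ih =>
      intro a b β x hx β' x' hx' ha hb hN
      by_cases hle : idealOf hx ≤ idealOf hx'
      · have he : idealOf hx = idealOf hx' := by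
          refine Submodule.restrictScalars_injective k R R (Submodule.eq_of_le_of_finrank_eq hle ?_)
          have := finrank_idealOf hx; have := finrank_idealOf hx'; omega
        obtain ⟨x'', hx'', hz, hcr⟩ := exists_isCoord_change F hx β' (isUnit_pd_of_idealOf_eq hx hx' he)
        have hu := isUnit_pd_of_idealOf_eq hx hx' he
        have hle2 : idealOf hx ≤ idealOf hx'' := fun r hr => funext fun i => by
          have h1 : x'' r i * pd x β' = 0 := by
            rw [hcr r i]
            exact Matrix.det_eq_zero_of_column_eq_zero i fun q => by simp [show x r = 0 from hr]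
          exact (mul_eq_zero.1 h1).resolve_right hu.ne_zero
        have he'' : idealOf hx' = idealOf hx'' := by
          refine Submodule.restrictScalars_injective k R R (Submodule.eq_of_le_of_finrank_eq (he ▸ hle2) ?_)
          have := finrank_idealOf hx'; have := finrank_idealOf hx''; omega
        obtain rfl := eq_of_idealOf hx' hx'' he''
        have hab : a = b := hom_ext Z hZ a b (by rw [ha, hb, ← hz])
        rw [hab]
        exact mem_connectedComponent
      · obtain ⟨β₁, x₁, i₀, μ, j, hu, hcr, hjJ, hjI, hline, hend⟩ := exists_line hx (J := idealOf hx') hle (by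
          have := finrank_idealOf hx; have := finrank_idealOf hx'; omega)
        obtain ⟨x₁', hx₁, hz, hcr'⟩ := exists_isCoord_change F hx β₁ hu
        obtain rfl : x₁' = x₁ := funext fun c => funext fun i =>
          mul_right_cancel₀ hu.ne_zero ((hcr' c i).trans (hcr c i).symm)
        have hle1 : idealOf hx ≤ idealOf hx₁ := fun r hr => funext fun i => by
          have h1 : x₁' r i * pd x β₁ = 0 := by
            rw [hcr' r i]
            exact Matrix.det_eq_zero_of_column_eq_zero i fun q => by simp [show x r = 0 from hr]
          exact (mul_eq_zero.1 h1).resolve_right hu.ne_zero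
        have hy := hline hx₁ hle1
        obtain ⟨l, hl, -⟩ := hZ _ (F.zOf hy)
        let ev : k → (Polynomial k →ₐ[k] k) := fun t => Polynomial.aeval t
        have hl' : ∀ t, HilbD.pull _ (F.homMap (ev t) ≫ l) Z.1 = (F.zOf (hy.map (ev t))).1 := fun t => by
          rw [HilbBC25.pull_comp, hl, F.pull_zOf]
        have h0 : F.homMap (ev 0) ≫ l = a := by
          refine hom_ext Z hZ _ _ ?_
          rw [hl', ha, ← hz]
          congr
          funext c i
          simp only [ev, map_sub, apply_ite (Polynomial.aeval (0 : k)), map_mul, Polynomial.aeval_X, zero_mul,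
            map_zero, ite_self, sub_zero, Polynomial.aeval_C, Algebra.algebraMap_self, RingHom.id_apply]
        have hone : ∀ r, (r ∈ idealOf hx ∧ r ∈ idealOf hx' ∨ r = j) → r ∈ idealOf (hy.map (ev 1)) := fun r hr => by
          refine funext fun i => Eq.trans ?_ (hend hx₁ hle1 r hr i)
          simp only [ev, map_sub, apply_ite (Polynomial.aeval (1 : k)), map_mul, Polynomial.aeval_X, one_mul,
            map_zero, Polynomial.aeval_C, Algebra.algebraMap_self, RingHom.id_apply]
        have hlt : (idealOf hx ⊓ idealOf hx').restrictScalars k <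
            (idealOf (hy.map (ev 1)) ⊓ idealOf hx').restrictScalars k := by
          rw [SetLike.lt_iff_le_and_exists]
          exact ⟨fun r hr => ⟨hone r (Or.inl hr), hr.2⟩, j, ⟨hone j (Or.inr rfl), hjJ⟩, fun h => hjI h.1⟩
        have h1 := ih (F.homMap (ev 1) ≫ l) b _ _ (hy.map (ev 1)) β' x' hx' (hl' 1) hb (by
          have := Submodule.finrank_lt_finrank_of_lt hlt
          omega)
        have hconn : _root_.IsPreconnected (Set.range l.left) :=
          haveI : PreconnectedSpace (F.TR (Polynomial k)).left :=
            inferInstanceAs (PreconnectedSpace (PrimeSpectrum (Polynomial k)))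
          isPreconnected_range l.left.continuous
        have hmem : ∀ t, pt (F.homMap (ev t) ≫ l) ∈ Set.range l.left := fun t =>
          ⟨(F.homMap (ev t)).left (IsLocalRing.closedPoint k), rfl⟩
        have h2 : pt a ∈ connectedComponent (pt (F.homMap (ev 1) ≫ l)) :=
          hconn.subset_connectedComponent (hmem 1) (h0 ▸ hmem 0)
        exact connectedComponent_eq h1 ▸ h2
  -- closed points
  have hk : ∀ y ∈ closedPoints H.left, ∃ (a : F.TR k ⟶ H), pt a = y := fun y hy => by
    refine ⟨Over.homMk (pointOfClosedPoint H.hom y hy) ?_, pointOfClosedPoint_apply H.hom y hy _⟩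
    rw [pointOfClosedPoint_comp]
    show _ = Spec.map (CommRingCat.ofHom (algebraMap k k)) ≫ 𝟙 _
    rw [Category.comp_id, Algebra.algebraMap_self]
    exact (Spec.map_id _).symm
  have hconn : ∀ y z : H.left, y ∈ connectedComponent z := by
    intro y z
    obtain ⟨y₀, hy₁, hy₂⟩ := (jacobsonSpace_iff_locallyClosed.1 ‹_›) (connectedComponent y)
      ⟨y, mem_connectedComponent⟩ isClosed_connectedComponent.isLocallyClosed
    obtain ⟨z₀, hz₁, hz₂⟩ := (jacobsonSpace_iff_locallyClosed.1 ‹_›) (connectedComponent z)
      ⟨z, mem_connectedComponent⟩ isClosed_connectedComponent.isLocallyClosed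
    obtain ⟨a, rfl⟩ := hk y₀ hy₂
    obtain ⟨b, rfl⟩ := hk z₀ hz₂
    obtain ⟨c, -, x, hx, ha⟩ := exists_hasCoord Z F hF (s := Set.univ) Submodule.span_univ a
    obtain ⟨c', -, x', hx', hb⟩ := exists_hasCoord Z F hF (s := Set.univ) Submodule.span_univ b
    have h := key _ a b c x hx c' x' hx' ha hb le_self_add
    rw [connectedComponent_eq hz₁, connectedComponent_eq h, ← connectedComponent_eq hy₁]
    exact mem_connectedComponent
  refine ⟨?_⟩
  rcases isEmpty_or_nonempty H.left with h | ⟨⟨z⟩⟩
  · rw [Set.univ_eq_empty_iff.2 h]; exact isPreconnected_empty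
  · rw [show (Set.univ : Set H.left) = connectedComponent z from (Set.eq_univ_of_forall fun y => hconn y z).symm]
    exact isPreconnected_connectedComponent

end Groth.Agent.PunctHilb18
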